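import Groth.Agent.Lib.Algz56.Embedding
import Groth.Agent.Lib.CohPullLib.SecPull

/-!
# Global sections under pullback along composites and isomorphisms
-/

set_option autoImplicit false
set_option linter.style.haveILetI false
universe u

open CategoryTheory CategoryTheory.Limits AlgebraicGeometry Opposite TopologicalSpace
open GrothLib.Algz56 (pullSec_comp pullSec_natural inv_hom_app)

noncomputable section

namespace GrothLib.ProjLift21

variable {X Y Z : Scheme.{u}}

theorem pullSec_id (M : X.Modules) (s : ProjUP.Γm M) :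
    ((Scheme.Modules.pullbackId X).hom.app M).app ⊤ (ProjUP.pullSec (𝟙 X) M s) = s := by
  have h := CohPullLib.pullbackId_pullRes M ⊤ ⊤ le_top le_top s
  rw [CohPullLib.pullRes_def] at h
  erw [CohPullLib.map_sec_self, CohPullLib.map_sec_self] at h
  exact h

theorem pullSec_congr {f g : X ⟶ Y} (h : f = g) (M : Y.Modules) (s : ProjUP.Γm M) :
    ((Scheme.Modules.pullbackCongr h).hom.app M).app ⊤ (ProjUP.pullSec f M s) = ProjUP.pullSec g M s := by
  subst h
  simp [Scheme.Modules.pullbackCongr]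

theorem bijective_app_top {M N : X.Modules} (e : M ≅ N) : Function.Bijective (e.hom.app ⊤) :=
  ConcreteCategory.bijective_of_isIso (e.hom.app ⊤)

/-- The comparison of a double pullback along mutually inverse morphisms. -/
def cancelSec (f : X ⟶ Y) (g : Y ⟶ X) (h : f ≫ g = 𝟙 X) (M : X.Modules)
    (z : ProjUP.Γm ((Scheme.Modules.pullback f).obj ((Scheme.Modules.pullback g).obj M))) : ProjUP.Γm M :=
  ((Scheme.Modules.pullbackId X).hom.app M).app ⊤ (((Scheme.Modules.pullbackCongr h).hom.app M).app ⊤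
    (((Scheme.Modules.pullbackComp f g).hom.app M).app ⊤ z))

theorem cancelSec_pullSec (f : X ⟶ Y) (g : Y ⟶ X) (h : f ≫ g = 𝟙 X) (M : X.Modules) (m : ProjUP.Γm M) :
    cancelSec f g h M (ProjUP.pullSec f _ (ProjUP.pullSec g M m)) = m := by
  rw [cancelSec, pullSec_comp, pullSec_congr, pullSec_id]

theorem injective_cancelSec (f : X ⟶ Y) (g : Y ⟶ X) (h : f ≫ g = 𝟙 X) (M : X.Modules) :
    Function.Injective (cancelSec f g h M) :=
  (ConcreteCategory.bijective_of_isIso (((Scheme.Modules.pullbackId X).hom.app M).app ⊤)).1.comp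
    ((ConcreteCategory.bijective_of_isIso (((Scheme.Modules.pullbackCongr h).hom.app M).app ⊤)).1.comp
      (ConcreteCategory.bijective_of_isIso (((Scheme.Modules.pullbackComp f g).hom.app M).app ⊤)).1)

/-- Pullback of sections along an isomorphism is surjective. -/
theorem surjective_pullSec_of_isIso (g : X ⟶ Y) [IsIso g] (M : Y.Modules) :
    Function.Surjective (ProjUP.pullSec g M) := by
  intro t
  let m := cancelSec (inv g) g (IsIso.inv_hom_id g) M (ProjUP.pullSec (inv g) _ t)
  refine ⟨m, ?_⟩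
  have h1 : ProjUP.pullSec (inv g) _ (ProjUP.pullSec g M m) = ProjUP.pullSec (inv g) _ t :=
    injective_cancelSec (inv g) g (IsIso.inv_hom_id g) M (cancelSec_pullSec (inv g) g _ M m)
  have h2 := congrArg (fun z => cancelSec g (inv g) (IsIso.hom_inv_id g) _ (ProjUP.pullSec g _ z)) h1
  exact (cancelSec_pullSec g (inv g) _ _ _).symm.trans (h2.trans (cancelSec_pullSec g (inv g) _ _ _))

/-- Surjectivity of pullback of sections along a composite. -/
theorem surjective_pullSec_comp (g : X ⟶ Y) (h : Y ⟶ Z) (M : Z.Modules) (k : X ⟶ Z) (hk : g ≫ h = k)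
    (hg : Function.Surjective (ProjUP.pullSec g ((Scheme.Modules.pullback h).obj M)))
    (hh : Function.Surjective (ProjUP.pullSec h M)) : Function.Surjective (ProjUP.pullSec k M) := by
  subst hk
  intro t
  obtain ⟨t', ht'⟩ := (bijective_app_top ((Scheme.Modules.pullbackComp g h).app M)).2 t
  obtain ⟨t'', rfl⟩ := hg t'
  obtain ⟨m, rfl⟩ := hh t''
  exact ⟨m, (pullSec_comp g h M m).symm.trans ht'⟩

variable {n : ℕ} {R : Type u} [CommRing R]

/-- A morphism to projective space given by sections of a module. -/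
def Cl (r : X ⟶ CohB1.ProjSpace n R) (L : X.Modules) (s : Fin (n + 1) → ProjUP.Γm L) : Prop :=
  ∃ τ : (Scheme.Modules.pullback r).obj (Twist.twistProjSpace n R 1) ≅ L,
    ∀ i, τ.hom.app ⊤ (Ample.ProjMap.pullCoord r i) = s i

theorem Cl.unique {r r' : X ⟶ CohB1.ProjSpace n R} {L : X.Modules} {s : Fin (n + 1) → ProjUP.Γm L}
    (h : Cl r L s) (h' : Cl r' L s)
    (hq : r ≫ CohB1.ProjSpace.toSpec n R = r' ≫ CohB1.ProjSpace.toSpec n R) : r = r' := by
  obtain ⟨τ, hτ⟩ := h
  obtain ⟨τ', hτ'⟩ := h'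
  exact Algz56.ext_of_sections r r' hq τ τ' s hτ hτ'

theorem Cl.of_iso {r : X ⟶ CohB1.ProjSpace n R} {L L' : X.Modules} {s : Fin (n + 1) → ProjUP.Γm L}
    (h : Cl r L s) (θ : L ≅ L') (s' : Fin (n + 1) → ProjUP.Γm L') (hs : ∀ i, θ.hom.app ⊤ (s i) = s' i) :
    Cl r L' s' := by
  obtain ⟨τ, hτ⟩ := h
  refine ⟨τ ≪≫ θ, fun i => ?_⟩
  rw [← hs i, ← hτ i]
  rfl

theorem Cl.comp {r : Y ⟶ CohB1.ProjSpace n R} {L : Y.Modules} {s : Fin (n + 1) → ProjUP.Γm L} (h : Cl r L s)
    (g : X ⟶ Y) : Cl (g ≫ r) ((Scheme.Modules.pullback g).obj L) (fun i => ProjUP.pullSec g L (s i)) := by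
  obtain ⟨τ, hτ⟩ := h
  refine ⟨((Scheme.Modules.pullbackComp g r).app _).symm ≪≫ (Scheme.Modules.pullback g).mapIso τ, fun i => ?_⟩
  rw [← Algz56.pullCoord_comp g r i]
  show ((Scheme.Modules.pullback g).map τ.hom).app ⊤
    (((Scheme.Modules.pullbackComp g r).inv.app _).app ⊤ (((Scheme.Modules.pullbackComp g r).hom.app _).app ⊤ _)) = _
  refine (congrArg (fun z => ((Scheme.Modules.pullback g).map τ.hom).app ⊤ z)
    (inv_hom_app ((Scheme.Modules.pullbackComp g r).app (Twist.twistProjSpace n R 1)) _)).trans ?_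
  exact (pullSec_natural g τ.hom _).trans (congrArg (ProjUP.pullSec g _) (hτ i))

theorem Cl.self (r : X ⟶ CohB1.ProjSpace n R) :
    Cl r ((Scheme.Modules.pullback r).obj (Twist.twistProjSpace n R 1)) (Ample.ProjMap.pullCoord r) :=
  ⟨Iso.refl _, fun _ => rfl⟩

theorem Cl.id (n : ℕ) (R : Type u) [CommRing R] :
    Cl (𝟙 (CohB1.ProjSpace n R)) (Twist.twistProjSpace n R 1) (ProjUP.coord n R) :=
  ⟨(Scheme.Modules.pullbackId _).app _, fun _ => pullSec_id _ _⟩

/-- Coordinates pulled back along a composite. -/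
theorem Cl.comp_self (g : X ⟶ Y) (r : Y ⟶ CohB1.ProjSpace n R) (k : X ⟶ CohB1.ProjSpace n R) (hk : g ≫ r = k)
    {r' : X ⟶ CohB1.ProjSpace n (R : Type u)}
    (h : Cl r' ((Scheme.Modules.pullback g).obj ((Scheme.Modules.pullback r).obj (Twist.twistProjSpace n R 1)))
      (fun i => ProjUP.pullSec g _ (Ample.ProjMap.pullCoord r i))) :
    Cl r' ((Scheme.Modules.pullback k).obj (Twist.twistProjSpace n R 1)) (Ample.ProjMap.pullCoord k) := by
  subst hk
  exact h.of_iso ((Scheme.Modules.pullbackComp g r).app _) _ fun i => Algz56.pullCoord_comp g r i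

end GrothLib.ProjLift21
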