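import Groth.Agent.Lib.Algz56.Main
import Groth.Agent.Lib.FormalExist7.MorAlg
import Groth.Agent.Lib.PicThick26.Artinian
import Groth.Agent.Lib.Poincare.PicZeroSurj
import Groth.Agent.Lib.CMReg.StructureMain
import Groth.Agent.Lib.Chow.Prod
import Groth.Agent.S11778

/-!
# Algebraizing `O(1)` from the closed fibre
-/

set_option autoImplicit false
set_option linter.style.haveILetI false
set_option maxHeartbeats 800000
universe u

open CategoryTheory CategoryTheory.Limits AlgebraicGeometry Opposite TopologicalSpace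

noncomputable section

namespace GrothLib.ProjLift21

theorem subsingleton_HH_structure_proj (r : ℕ) (k : Type u) [Field k] {i : ℕ} (hi : 1 ≤ i) :
    Subsingleton (Coh.HH (CohB1.ProjSpace r k) (Coh.structureModule _) i) :=
  PicZeroSurj.subsingleton_HH_of_iso (CMReg.nonempty_twist_zero (n := r) (k := k)).some i
    (CMReg.subsingleton_HH_twist r hi (by omega))

variable {A : Type u} [CommRing A] [IsLocalRing A]

theorem exists_iso_specQuot_zero :
    ∃ ρ : Spec (CommRingCat.of (IsLocalRing.ResidueField A)) ≅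
        Spec (CommRingCat.of (A ⧸ IsLocalRing.maximalIdeal A ^ (0 + 1))),
      ρ.hom ≫ CohB1.specQuot (IsLocalRing.maximalIdeal A) 0 =
        Spec.map (CommRingCat.ofHom (IsLocalRing.residue A)) := by
  let e : (A ⧸ IsLocalRing.maximalIdeal A ^ (0 + 1)) ≃+* IsLocalRing.ResidueField A :=
    Ideal.quotEquivOfEq (pow_one _)
  refine ⟨asIso (Spec.map e.toCommRingCatIso.hom), ?_⟩
  rw [asIso_hom, CohB1.specQuot, ← Spec.map_comp]
  rfl

/-- A bundle restricting to `O(1)` on the closed fibre. -/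
theorem exists_lineBundle [IsNoetherianRing A] [IsAdicComplete (IsLocalRing.maximalIdeal A) A] {r : ℕ}
    {X : Scheme.{u}} (f : X ⟶ Spec (CommRingCat.of A)) [IsProper f] [Flat f]
    (ι₀ : CohB1.ProjSpace r (IsLocalRing.ResidueField A) ⟶ X)
    (h₀ : IsPullback ι₀ (CohB1.ProjSpace.toSpec r (IsLocalRing.ResidueField A)) f
      (Spec.map (CommRingCat.ofHom (IsLocalRing.residue A)))) :
    ∃ L : X.Modules, PicF.IsInvertible L ∧
      Nonempty ((Scheme.Modules.pullback ι₀).obj L ≅ Twist.twistProjSpace r (IsLocalRing.ResidueField A) 1) := by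
  let m := IsLocalRing.maximalIdeal A
  let k := IsLocalRing.ResidueField A
  let P := CohB1.ProjSpace r k
  let X₀ := CohB1.thick f m 0
  let ι' : X₀ ⟶ X := CohB1.thickι f m 0
  let T : X₀ ⟶ _ := CohB1.thickToBase f m 0
  obtain ⟨ρ, hρ⟩ := exists_iso_specQuot_zero (A := A)
  have h₀' : IsPullback ι₀ (CohB1.ProjSpace.toSpec r k ≫ ρ.hom) f (CohB1.specQuot m 0) :=
    h₀.of_iso (Iso.refl _) (Iso.refl _) ρ (Iso.refl _) (by simp) (by simp [k]) (by simp) (by simp [m, hρ])
  let j : P ≅ X₀ := h₀'.isoPullback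
  have hj : j.hom ≫ ι' = ι₀ := h₀'.isoPullback_hom_fst
  haveI hflat : ∀ n, Flat (CohB1.thickToBase f m n) := fun n =>
    MorphismProperty.pullback_snd (P := @Flat) _ _ ‹_›
  haveI hprop : IsProper T := MorphismProperty.pullback_snd (P := @IsProper) _ _ ‹_›
  haveI : X₀.IsSeparated := ⟨by rw [← terminal.comp_from T]; infer_instance⟩
  have h2 : Subsingleton (Coh.HH X₀ (Coh.structureModule X₀) 2) :=
    PicThick26.subsingleton_HH_structure_of_iso j.inv 2 (subsingleton_HH_structure_proj r k (by omega))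
  let L₀ := (Scheme.Modules.pullback j.inv).obj (Twist.twistProjSpace r k 1)
  have ha₀ : CohB1.IsAmple L₀ :=
    Ample.isAmple_pullback_of_isAffineHom j.inv (Ample.isAmple_twistProjSpace_one r k)
  obtain ⟨L, hL, ⟨e⟩, φ⟩ := Groth.Agent.S11778.result A (CohB1.thick f m) (CohB1.thickToBase f m)
    (CohB1.thickTrans f m) (Algz56.isPullback_thick_trans f m) hflat h2 L₀ ha₀.1
  obtain ⟨Y, g, M, ey, hg, hM, -, hpb, hec, hml⟩ := Algz56.exists_algebraization_ample m (CohB1.thickToBase f m)
    (CohB1.thickTrans f m) (Algz56.isPullback_thick_trans f m) hprop L hL φ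
    ((Ample.isAmple_iff_of_iso e).2 ha₀)
  let z : ∀ n, CohB1.thick f m n ⟶ CohB1.thick g m n := fun n =>
    pullback.lift (ey n) (CohB1.thickToBase f m n) (hpb n).w
  have hz₁ : ∀ n, z n ≫ CohB1.thickι g m n = ey n := fun n => pullback.lift_fst _ _ _
  have hz₂ : ∀ n, z n ≫ CohB1.thickToBase g m n = CohB1.thickToBase f m n := fun n => pullback.lift_snd _ _ _
  have hz : ∀ n, CohB1.thickTrans f m n ≫ z (n + 1) = z n ≫ CohB1.thickTrans g m n := by
    intro n
    refine pullback.hom_ext ?_ ?_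
    · show (CohB1.thickTrans f m n ≫ z (n + 1)) ≫ CohB1.thickι g m (n + 1) =
        (z n ≫ CohB1.thickTrans g m n) ≫ CohB1.thickι g m (n + 1)
      rw [Category.assoc, Category.assoc, hz₁, FormalExist7.thickTrans_thickι, hz₁, ← hec]
    · show (CohB1.thickTrans f m n ≫ z (n + 1)) ≫ CohB1.thickToBase g m (n + 1) =
        (z n ≫ CohB1.thickTrans g m n) ≫ CohB1.thickToBase g m (n + 1)
      rw [Category.assoc, Category.assoc, hz₂, (Algz56.isPullback_thick_trans g m n).w,
        (Algz56.isPullback_thick_trans f m n).w, reassoc_of% hz₂]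
  obtain ⟨φ', -, hφ'⟩ := FormalExist7.exists_hom_of_thick (A := A) m f g z hz₂ hz
  obtain ⟨el⟩ := hml 0
  refine ⟨(Scheme.Modules.pullback φ').obj M, Ample.isInvertible_pullback φ' hM, ⟨?_⟩⟩
  have hcomp : ι₀ ≫ φ' = j.hom ≫ ey 0 := by
    rw [← hj, Category.assoc, hφ' 0, hz₁]
  exact (Scheme.Modules.pullbackComp ι₀ φ').app M ≪≫ (Scheme.Modules.pullbackCongr hcomp).app M ≪≫
    ((Scheme.Modules.pullbackComp j.hom (ey 0)).app M).symm ≪≫
    (Scheme.Modules.pullback j.hom).mapIso (el ≪≫ e) ≪≫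
    (Scheme.Modules.pullbackComp j.hom j.inv).app _ ≪≫
    (Scheme.Modules.pullbackCongr j.hom_inv_id).app _ ≪≫ (Scheme.Modules.pullbackId _).app _

end GrothLib.ProjLift21
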