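import Groth.Agent.Lib.ProjLift21.Sec
import Groth.Agent.Lib.Chow.Prod

/-!
# Change of coefficients of projective space, through coordinates
-/

set_option autoImplicit false
set_option linter.style.haveILetI false
universe u

open CategoryTheory CategoryTheory.Limits AlgebraicGeometry Opposite TopologicalSpace

noncomputable section

namespace GrothLib.ProjLift21

variable {n : ℕ} {A B : Type u} [CommRing A] [CommRing B]

/-- A morphism `P^n_B ⟶ P^n_A` carrying coordinates to coordinates is the change of coefficients. -/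
theorem isPullback_of_cl (c : Spec (CommRingCat.of B) ⟶ Spec (CommRingCat.of A))
    (r : CohB1.ProjSpace n B ⟶ CohB1.ProjSpace n A)
    (hr : r ≫ CohB1.ProjSpace.toSpec n A = CohB1.ProjSpace.toSpec n B ≫ c)
    (h : Cl r (Twist.twistProjSpace n B 1) (ProjUP.coord n B)) :
    IsPullback r (CohB1.ProjSpace.toSpec n B) (CohB1.ProjSpace.toSpec n A) c := by
  let hA := CohB1.ProjSpace.toSpec n A
  let Q := pullback hA c
  let p₁ : Q ⟶ CohB1.ProjSpace n A := pullback.fst hA c
  let p₂ : Q ⟶ Spec (CommRingCat.of B) := pullback.snd hA c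
  let ψ : CohB1.ProjSpace n B ⟶ Q := pullback.lift r (CohB1.ProjSpace.toSpec n B) hr
  have hψ₁ : ψ ≫ p₁ = r := pullback.lift_fst _ _ _
  have hψ₂ : ψ ≫ p₂ = CohB1.ProjSpace.toSpec n B := pullback.lift_snd _ _ _
  obtain ⟨w, hw, τw, hτw⟩ := Algz56.exists_toProj
    (L := (Scheme.Modules.pullback p₁).obj (Twist.twistProjSpace n A 1))
    (Ample.isInvertible_pullback p₁ ((Ample.ProjMap.pcoc n A).isInvertible_of_iso (Ample.ProjMap.pcocIso n A)))
    (Ample.ProjMap.pullCoord p₁) (Algz56.generatedBy_pullCoord p₁) p₂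
  have hcw : Cl w ((Scheme.Modules.pullback p₁).obj (Twist.twistProjSpace n A 1)) (Ample.ProjMap.pullCoord p₁) :=
    ⟨τw, hτw⟩
  have e1 : ψ ≫ w = 𝟙 _ := by
    refine Cl.unique (L := Twist.twistProjSpace n B 1) (s := ProjUP.coord n B) ?_ (Cl.id n B) ?_
    · obtain ⟨τ, hτ⟩ := h
      refine Cl.of_iso (L := (Scheme.Modules.pullback r).obj (Twist.twistProjSpace n A 1))
        (s := Ample.ProjMap.pullCoord r) ?_ τ _ hτ
      refine (hcw.comp ψ).of_iso ((Scheme.Modules.pullbackComp ψ p₁).app _ ≪≫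
        (Scheme.Modules.pullbackCongr hψ₁).app _) _ fun i => ?_
      exact (congrArg (fun z => ((Scheme.Modules.pullbackCongr hψ₁).hom.app _).app ⊤ z)
        (Algz56.pullCoord_comp ψ p₁ i)).trans (pullSec_congr hψ₁ _ _)
    · rw [Category.assoc, hw, hψ₂, Category.id_comp]
  have e2 : w ≫ ψ = 𝟙 _ := by
    refine pullback.hom_ext ?_ ?_
    · show (w ≫ ψ) ≫ p₁ = 𝟙 Q ≫ p₁
      rw [Category.assoc, hψ₁, Category.id_comp]
      refine Cl.unique ?_ (Cl.self p₁) ?_
      · refine (h.comp w).of_iso τw _ fun i => ?_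
        exact hτw i
      · show (w ≫ r) ≫ hA = p₁ ≫ hA
        rw [Category.assoc, show r ≫ hA = _ from hr, ← Category.assoc, hw]
        exact pullback.condition.symm
    · show (w ≫ ψ) ≫ p₂ = 𝟙 Q ≫ p₂
      rw [Category.assoc, hψ₂, Category.id_comp, hw]
  haveI : IsIso ψ := ⟨w, e1, e2⟩
  exact IsPullback.of_iso_pullback ⟨hr⟩ (asIso ψ) hψ₁ hψ₂

end GrothLib.ProjLift21
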