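import Groth.Agent.Lib.ProjLift21.Bundle
import Groth.Agent.Lib.ProjLift21.Classify
import Groth.Agent.Lib.FibVA20.Mono
import Groth.Agent.Lib.FibreFlat.IsoLocus
import Groth.Agent.Lib.LocProp.Stalk

/-!
# Projective space is rigid over a complete local ring
-/

set_option autoImplicit false
set_option linter.style.haveILetI false
set_option maxHeartbeats 800000
universe u

open CategoryTheory CategoryTheory.Limits AlgebraicGeometry Opposite TopologicalSpace

noncomputable section

namespace GrothLib.ProjLift21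

variable {A : Type u} [CommRing A] [IsLocalRing A]

/-- The closed point of `Spec A`, as a morphism, is the residue point up to an isomorphism. -/
theorem exists_iso_residuePoint :
    ∃ γ : Spec (CommRingCat.of (IsLocalRing.ResidueField A)) ≅
        Spec ((Spec (CommRingCat.of A)).residueField (IsLocalRing.closedPoint A)),
      γ.hom ≫ (Spec (CommRingCat.of A)).fromSpecResidueField (IsLocalRing.closedPoint A) =
        Spec.map (CommRingCat.ofHom (IsLocalRing.residue A)) := by
  let S := Spec (CommRingCat.of A)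
  let c : Spec (CommRingCat.of (IsLocalRing.ResidueField A)) ⟶ S :=
    Spec.map (CommRingCat.ofHom (IsLocalRing.residue A))
  haveI : IsClosedImmersion c := IsClosedImmersion.spec_of_surjective _ Ideal.Quotient.mk_surjective
  have key : ∀ s : S, c (IsLocalRing.closedPoint (IsLocalRing.ResidueField A)) = s →
      ∃ γ : Spec (CommRingCat.of (IsLocalRing.ResidueField A)) ≅ Spec (S.residueField s),
        γ.hom ≫ S.fromSpecResidueField s = c := by
    rintro _ rfl
    let d := S.descResidueField (Scheme.stalkClosedPointTo c)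
    have hd : Spec.map d ≫ S.fromSpecResidueField _ = c :=
      Scheme.descResidueField_stalkClosedPointTo_fromSpecResidueField _ _ c
    haveI : IsClosedImmersion (Spec.map d ≫ S.fromSpecResidueField _) := hd.symm ▸ inferInstance
    haveI : IsClosedImmersion (Spec.map d) := IsClosedImmersion.of_comp _ (S.fromSpecResidueField _)
    haveI : Surjective (Spec.map d) := ⟨fun y => ⟨IsLocalRing.closedPoint _, Subsingleton.elim (α := PrimeSpectrum _) _ _⟩⟩
    haveI : IsIso (Spec.map d) := isIso_of_isClosedImmersion_of_surjective _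
    exact ⟨asIso (Spec.map d), hd⟩
  exact key _ (IsLocalRing.comap_closedPoint (IsLocalRing.residue A))

variable [IsNoetherianRing A] {r : ℕ} {X : Scheme.{u}} (f : X ⟶ Spec (CommRingCat.of A))
  (ι₀ : CohB1.ProjSpace r (IsLocalRing.ResidueField A) ⟶ X)
  (h₀ : IsPullback ι₀ (CohB1.ProjSpace.toSpec r (IsLocalRing.ResidueField A)) f
    (Spec.map (CommRingCat.ofHom (IsLocalRing.residue A))))

include h₀ in
theorem exists_iso_fiber :
    ∃ β : CohB1.ProjSpace r (IsLocalRing.ResidueField A) ≅ f.fiber (IsLocalRing.closedPoint A),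
      β.hom ≫ f.fiberι (IsLocalRing.closedPoint A) = ι₀ := by
  obtain ⟨γ, hγ⟩ := exists_iso_residuePoint (A := A)
  have h : IsPullback ι₀ (CohB1.ProjSpace.toSpec r (IsLocalRing.ResidueField A) ≫ γ.hom) f
      ((Spec (CommRingCat.of A)).fromSpecResidueField (IsLocalRing.closedPoint A)) :=
    h₀.of_iso (Iso.refl _) (Iso.refl _) γ (Iso.refl _) (by simp) (by simp) (by simp) (by simp [hγ])
  exact ⟨h.isoPullback, h.isoPullback_hom_fst⟩

variable [IsProper f] [Flat f]

include h₀ in
theorem surjective_pullSec {L : X.Modules} (hL : PicF.IsInvertible L)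
    (θ : (Scheme.Modules.pullback ι₀).obj L ≅ Twist.twistProjSpace r (IsLocalRing.ResidueField A) 1) :
    Function.Surjective (ProjUP.pullSec ι₀ L) := by
  obtain ⟨β, hβ⟩ := exists_iso_fiber f ι₀ h₀
  let s₀ := IsLocalRing.closedPoint A
  have hinv : β.inv ≫ ι₀ = f.fiberι s₀ := by rw [← hβ, Iso.inv_hom_id_assoc]
  haveI : (Twist.twistProjSpace r (IsLocalRing.ResidueField A) 1).IsQuasicoherent :=
    InvExt.isQuasicoherent_of_isInvertible (CMReg.isInvertible_twist 1)
  haveI := CMReg.subsingleton_HH_twist (k := IsLocalRing.ResidueField A) r (le_refl 1) (t := 1) (by norm_num)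
  have h1 : Subsingleton (Coh.HH (f.fiber s₀) ((Scheme.Modules.pullback (f.fiberι s₀)).obj L) 1) :=
    PicZeroSurj.subsingleton_HH_of_iso
      ((Scheme.Modules.pullback β.inv).mapIso θ.symm ≪≫ (Scheme.Modules.pullbackComp β.inv ι₀).app L ≪≫
        (Scheme.Modules.pullbackCongr hinv).app L) 1
      (PicZeroSurj.subsingleton_HH_pullback β.inv _ 1)
  refine surjective_pullSec_comp β.hom (f.fiberι s₀) L ι₀ hβ (surjective_pullSec_of_isIso β.hom _) fun t => ?_
  obtain ⟨W, -, hy, e, b, hb⟩ := FibVA20.exists_lift_section f L hL s₀ h1 t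
  obtain rfl : W = ⊤ := top_le_iff.1 fun z _ =>
    (IsLocalRing.specializes_closedPoint z).mem_open W.2 hy
  refine ⟨b, ?_⟩
  rw [← hb, CohPullLib.pullRes_def]
  exact (CohPullLib.map_sec_self _ _ _).symm

omit [Flat f] in
include h₀ in
theorem mem_range_of_isClosed (x : X) (hx : IsClosed ({x} : Set X)) : x ∈ Set.range ι₀ := by
  have h1 : IsClosed (f '' {x}) := f.isClosedMap _ hx
  rw [Set.image_singleton] at h1
  have h1' := (PrimeSpectrum.isClosed_singleton_iff_isMaximal (f x)).1 h1
  have h2 : f x = IsLocalRing.closedPoint A := PrimeSpectrum.ext (IsLocalRing.eq_maximalIdeal h1')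
  obtain ⟨β, hβ⟩ := exists_iso_fiber f ι₀ h₀
  obtain ⟨w, hw⟩ := (f.range_fiberι (IsLocalRing.closedPoint A)).ge h2
  exact ⟨β.inv w, by rw [← hβ, ← Scheme.Hom.comp_apply, Iso.inv_hom_id_assoc]; exact hw⟩

include h₀ in
/-- **Rigidity of projective space over a complete local ring.** -/
theorem exists_iso_projSpace [IsAdicComplete (IsLocalRing.maximalIdeal A) A] :
    ∃ e : X ≅ CohB1.ProjSpace r A, e.hom ≫ CohB1.ProjSpace.toSpec r A = f := by
  obtain ⟨L, hL, ⟨θ⟩⟩ := exists_lineBundle f ι₀ h₀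
  have hlift : ∀ i, ∃ s : ProjUP.Γm L,
      θ.hom.app ⊤ (ProjUP.pullSec ι₀ L s) = ProjUP.coord r (IsLocalRing.ResidueField A) i := fun i => by
    obtain ⟨t, ht⟩ := (bijective_app_top θ).2 (ProjUP.coord r (IsLocalRing.ResidueField A) i)
    obtain ⟨s, hs⟩ := surjective_pullSec f ι₀ h₀ hL θ t
    exact ⟨s, by rw [hs, ht]⟩
  choose s hs using hlift
  -- the sections generate
  have hgen : ∀ x : X, x ∈ (⨆ i, VA.genOpen L (s i) : X.Opens) := by
    intro x
    by_contra hx
    letI : X.Over (Spec (CommRingCat.of A)) := ⟨f⟩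
    haveI : IsProper (X ↘ Spec (CommRingCat.of A)) := ‹IsProper f›
    haveI := SerreVanish.isNoetherian_of_proper (X := X) A
    obtain ⟨y, hy, hyc⟩ := (⨆ i, VA.genOpen L (s i) : X.Opens).isOpen.isClosed_compl.exists_closed_singleton ⟨x, hx⟩
    obtain ⟨p, hp⟩ := mem_range_of_isClosed f ι₀ h₀ y hyc
    obtain ⟨k', hk'⟩ := (Ample.ProjMap.pcoc r (IsLocalRing.ResidueField A)).exists_mem p
    refine hy ((le_iSup (fun i => VA.genOpen L (s i)) k'.down) ?_)
    rw [← hp]
    refine ((FibVA20.mem_genOpen_pullRes ι₀ hL (V := ⊤) (V' := ⊤) le_top (s k'.down) (x := p)).1 ?_).2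
    rw [CohPullLib.pullRes_def]
    erw [CohPullLib.map_sec_self]
    rw [VA.mem_genOpen]
    let U := (Ample.ProjMap.pcoc r (IsLocalRing.ResidueField A)).D k'
    have h1 : InvExt.IsGen (Twist.twistProjSpace r (IsLocalRing.ResidueField A) 1) U
        (InvExt.mres _ (le_top : U ≤ ⊤) (ProjUP.coord r _ k'.down)) := by
      refine (congrArg (InvExt.IsGen _ _) (Ample.ProjMap.mres_coord_self k')).mpr ?_
      exact InvExt.IsGen.map (Ample.ProjMap.pcocIso r _).inv
        ((Ample.ProjMap.pcoc r _).isGen_base 1 k' le_rfl) fun W _ =>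
        ConcreteCategory.bijective_of_isIso ((Ample.ProjMap.pcocIso r _).inv.app W)
    rw [← hs k'.down] at h1
    refine ⟨U, le_top, hk', ?_⟩
    have h2 := InvExt.IsGen.map θ.inv h1 fun W _ => ConcreteCategory.bijective_of_isIso (θ.inv.app W)
    rw [Ample.app_mres] at h2
    erw [Algz56.inv_hom_app] at h2
    exact h2
  have hG : ProjUP.GeneratedBy L s := Algz56.generatedBy_of_isGen s fun x => by
    obtain ⟨i, hi⟩ := Opens.mem_iSup.1 (hgen x)
    obtain ⟨W, h, hxW, hW⟩ := VA.mem_genOpen.1 hi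
    exact ⟨i, W, hxW, hW⟩
  obtain ⟨φ, hφ, τ, hτ⟩ := Algz56.exists_toProj hL s hG f
  let P := CohB1.ProjSpace r (IsLocalRing.ResidueField A)
  let h := CohB1.ProjSpace.toSpec r A
  let c := Spec.map (CommRingCat.ofHom (IsLocalRing.residue A))
  let j : P ⟶ CohB1.ProjSpace r A := ι₀ ≫ φ
  have hj : j ≫ h = CohB1.ProjSpace.toSpec r _ ≫ c := by
    show (ι₀ ≫ φ) ≫ h = _
    rw [Category.assoc, hφ]
    exact h₀.w
  have hcl : Cl j (Twist.twistProjSpace r (IsLocalRing.ResidueField A) 1) (ProjUP.coord r _) :=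
    (Cl.comp (L := L) (s := s) ⟨τ, hτ⟩ ι₀).of_iso θ _ hs
  have hjp : IsPullback j (CohB1.ProjSpace.toSpec r _) h c := isPullback_of_cl c j hj hcl
  have htop : IsPullback ι₀ (𝟙 P) φ j :=
    IsPullback.of_bot (by rw [Category.id_comp, hφ]; exact h₀) (by rw [Category.id_comp]) hjp
  obtain ⟨β, hβ⟩ := exists_iso_fiber h j hjp
  have htop' : IsPullback ι₀ β.hom φ (h.fiberι (IsLocalRing.closedPoint A)) :=
    htop.of_iso (Iso.refl _) (Iso.refl _) β (Iso.refl _) (by simp) (Category.id_comp _) (by simp) (by simp [hβ])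
  have hiso : IsIso (pullback.snd φ (h.fiberι (IsLocalRing.closedPoint A))) := by
    rw [← htop'.isoPullback_inv_snd]
    infer_instance
  haveI := GrothLib.Chow.isProper_toSpec r A
  haveI : IsProper (φ ≫ h) := hφ.symm ▸ inferInstance
  haveI : IsProper φ := IsProper.of_comp φ h
  haveI : Flat (φ ≫ h) := hφ.symm ▸ inferInstance
  haveI : LocallyOfFinitePresentation (φ ≫ h) := LocProp.locallyOfFinitePresentation_of_isLocallyNoetherian _
  obtain ⟨U, hU, hUi⟩ := FibreFlat.isOpen_isIso_fibre_locus φ h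
  have hUtop : U = ⊤ := top_le_iff.1 fun z _ =>
    (IsLocalRing.specializes_closedPoint z).mem_open U.2 ((hU _).2 hiso)
  subst hUtop
  haveI : IsIso (Scheme.Opens.ι (h ⁻¹ᵁ ⊤)) := inferInstanceAs (IsIso (Scheme.topIso _).hom)
  haveI : IsIso (Scheme.Opens.ι (φ ⁻¹ᵁ (h ⁻¹ᵁ ⊤))) := inferInstanceAs (IsIso (Scheme.topIso _).hom)
  haveI := hUi
  haveI : IsIso φ := IsIso.of_isIso_fac_left (morphismRestrict_ι φ (h ⁻¹ᵁ ⊤)).symm
  exact ⟨asIso φ, hφ⟩

end GrothLib.ProjLift21
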